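import Mathlib
import Groth.Agent.CanonLib.Basic
import Groth.Agent.LocCohLib.Filtered

/-! Top local cohomology is tensoring with the top local cohomology of the ring. -/

set_option autoImplicit false
universe u

namespace Groth.Agent.TopHTensorLib

open CategoryTheory LocCohLib CanonLib TensorProduct

variable {S : Type u} [CommRing S] [IsNoetherianRing S] (J : Ideal S) (d : ℕ)

/-- Cohomological dimension is at most the number of elements generating up to radical. -/
theorem cdLE_of_radical (u : Fin d → S) (hu : ∀ i, u i ∈ J) (hJ : J ≤ (Ideal.span (Set.range u)).radical) :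
    LocCoh.CdLE S J d := by
  classical
  intro M _ _ i hi
  have hrad : J.radical = (Ideal.span ((Finset.univ.image u : Finset S) : Set S)).radical := by
    rw [Finset.coe_image, Finset.coe_univ, Set.image_univ]
    refine le_antisymm ((Ideal.radical_mono hJ).trans (Ideal.radical_idem _).le) (Ideal.radical_mono ?_)
    exact Ideal.span_le.mpr (by rintro _ ⟨j, rfl⟩; exact hu j)
  have hcard : (Finset.univ.image u).card < i :=
    lt_of_le_of_lt (Finset.card_image_le.trans (by rw [Finset.card_univ, Fintype.card_fin])) hi
  haveI := subsingleton_of_card_lt (Finset.univ.image u) (ModuleCat.of S M) i hcard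
  exact ((localCohomology.isoOfSameRadical hrad i).app (ModuleCat.of S M)).toLinearEquiv.injective.subsingleton

theorem spanH_add {M : Type u} [AddCommGroup M] [Module S M] (x y : M) (z : LocCoh.H J d S) :
    spanH J d (x + y) z = spanH J d x z + spanH J d y z := by
  have : LinearMap.toSpanSingleton S M (x + y) = LinearMap.toSpanSingleton S M x + LinearMap.toSpanSingleton S M y := by
    ext; simp
  rw [spanH, spanH, spanH, this, ModuleCat.ofHom_add, Functor.map_add]
  rfl

/-- The comparison map. -/
noncomputable def comp (M : Type u) [AddCommGroup M] [Module S M] :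
    M ⊗[S] LocCoh.H J d S →ₗ[S] LocCoh.H J d M :=
  TensorProduct.lift
    { toFun := fun x => spanH J d x
      map_add' := fun x y => LinearMap.ext fun z => spanH_add J d x y z
      map_smul' := fun r x => LinearMap.ext fun z => spanH_smul J d r x z }

theorem comp_tmul (M : Type u) [AddCommGroup M] [Module S M] (x : M) (z : LocCoh.H J d S) :
    comp J d M (x ⊗ₜ z) = spanH J d x z := rfl

theorem comp_natural {M N : Type u} [AddCommGroup M] [Module S M] [AddCommGroup N] [Module S N] (f : M →ₗ[S] N)
    (w : M ⊗[S] LocCoh.H J d S) :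
    ((localCohomology J d).map (ModuleCat.ofHom f)).hom (comp J d M w) = comp J d N (f.rTensor _ w) := by
  induction w with
  | zero => simp
  | tmul x z => rw [LinearMap.rTensor_tmul, comp_tmul, comp_tmul]; exact map_spanH J d f x z
  | add x y hx hy => rw [map_add, map_add, map_add, map_add, hx, hy]

theorem bijective_comp_free (r : ℕ) : Function.Bijective (comp J d (Fin r → S)) := by
  let pr : Fin r → (LocCoh.H J d (Fin r → S) →ₗ[S] LocCoh.H J d S) := fun a =>
    ((localCohomology J d).map (ModuleCat.ofHom (LinearMap.proj a : (Fin r → S) →ₗ[S] S))).hom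
  let inv : LocCoh.H J d (Fin r → S) →ₗ[S] (Fin r → S) ⊗[S] LocCoh.H J d S :=
    ∑ a, (TensorProduct.mk S _ _ (Pi.single a 1)).comp (pr a)
  refine Function.bijective_iff_has_inverse.mpr ⟨inv, fun w => ?_, fun z => ?_⟩
  · induction w with
    | zero => simp
    | tmul x z =>
      simp only [inv, LinearMap.sum_apply, LinearMap.comp_apply, comp_tmul, TensorProduct.mk_apply, pr]
      conv_rhs => rw [show x = ∑ a, x a • (Pi.single a (1 : S) : Fin r → S) by
        ext j; simp [Finset.sum_apply, Pi.single_apply], TensorProduct.sum_tmul]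
      refine Finset.sum_congr rfl fun a _ => ?_
      rw [map_spanH, show LinearMap.proj a x = x a • (1 : S) by simp, spanH_smul, spanH_one, TensorProduct.smul_tmul]
    | add x y hx hy => rw [map_add, map_add, hx, hy]
  · simp only [inv, LinearMap.sum_apply, LinearMap.comp_apply, map_sum, comp_tmul, TensorProduct.mk_apply, pr]
    exact (pi_expand J d r z).symm

variable {J d} (hcd : LocCoh.CdLE S J d)

include hcd

theorem surjective_comp_finite (M : Type u) [AddCommGroup M] [Module S M] [Module.Finite S M] :
    Function.Surjective (comp J d M) := by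
  obtain ⟨r, f, hf⟩ := Module.Finite.exists_fin' S M
  intro z
  obtain ⟨w, rfl⟩ := map_surjective_top hcd f hf z
  obtain ⟨w', rfl⟩ := (bijective_comp_free J d r).2 w
  exact ⟨_, (comp_natural J d f w').symm⟩

theorem bijective_comp_finite (M : Type u) [AddCommGroup M] [Module S M] [Module.Finite S M] :
    Function.Bijective (comp J d M) := by
  refine ⟨(injective_iff_map_eq_zero _).mpr fun z hz => ?_, surjective_comp_finite hcd M⟩
  obtain ⟨r, f, hf⟩ := Module.Finite.exists_fin' S M
  let L := LinearMap.ker f
  haveI : Module.Finite S L := Module.Finite.of_fg (IsNoetherian.noetherian L)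
  obtain ⟨w, rfl⟩ := LinearMap.rTensor_surjective (LocCoh.H J d S) hf z
  rw [← comp_natural] at hz
  let T : ShortComplex (ModuleCat.{u} S) := ShortComplex.mk (ModuleCat.ofHom L.subtype)
    (ModuleCat.ofHom f) (by ext x; exact x.2)
  have hT : T.ShortExact :=
    { exact := (ShortComplex.moduleCat_exact_iff _).mpr fun x hx => ⟨⟨x, hx⟩, rfl⟩
      mono_f := (ModuleCat.mono_iff_injective _).mpr Subtype.val_injective
      epi_g := (ModuleCat.epi_iff_surjective _).mpr hf }
  obtain ⟨v, hv⟩ := exists_of_map_g_eq_zero J hT d (comp J d (Fin r → S) w) hz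
  obtain ⟨v', rfl⟩ := surjective_comp_finite hcd L v
  rw [show T.f = ModuleCat.ofHom L.subtype from rfl, comp_natural] at hv
  rw [← (bijective_comp_free J d r).1 hv, ← LinearMap.comp_apply, ← LinearMap.rTensor_comp,
    LinearMap.comp_ker_subtype, LinearMap.rTensor_zero, LinearMap.zero_apply]

theorem bijective_comp (M : Type u) [AddCommGroup M] [Module S M] : Function.Bijective (comp J d M) := by
  classical
  have hfin : ∀ w : M ⊗[S] LocCoh.H J d S, ∃ (M₀ : Submodule S M), M₀.FG ∧
      ∃ w₀ : M₀ ⊗[S] LocCoh.H J d S, M₀.subtype.rTensor _ w₀ = w := by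
    intro w
    obtain ⟨F, hF⟩ := TensorProduct.exists_finset w
    refine ⟨Submodule.span S (F.image Prod.fst : Finset M), Submodule.fg_span (Finset.finite_toSet _), ?_⟩
    rw [hF]
    exact ⟨∑ p ∈ F.attach, (⟨p.1.1, Submodule.subset_span (Finset.mem_image_of_mem _ p.2)⟩ :
      Submodule.span S ((F.image Prod.fst : Finset M) : Set M)) ⊗ₜ p.1.2, by
        rw [map_sum, ← Finset.sum_attach F]; rfl⟩
  refine ⟨(injective_iff_map_eq_zero _).mpr fun w hw => ?_, fun z => ?_⟩
  · obtain ⟨M₀, hM₀, w₀, rfl⟩ := hfin w
    rw [← comp_natural] at hw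
    obtain ⟨N', hle, hN', hkill⟩ := exists_fg_kill J d (ModuleCat.of S M) M₀ hM₀ _ hw
    haveI : Module.Finite S N' := Module.Finite.of_fg hN'
    have h1 : (Submodule.inclusion hle).rTensor _ w₀ = 0 :=
      (bijective_comp_finite hcd N').1 (by rw [map_zero, ← comp_natural]; exact hkill)
    rw [show M₀.subtype = N'.subtype.comp (Submodule.inclusion hle) from rfl, LinearMap.rTensor_comp,
      LinearMap.comp_apply, h1, map_zero]
  · obtain ⟨M₀, hM₀, z₀, rfl⟩ := exists_fg_preimage J d (ModuleCat.of S M) z
    haveI : Module.Finite S M₀ := Module.Finite.of_fg hM₀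
    obtain ⟨w₀, rfl⟩ := surjective_comp_finite hcd M₀ z₀
    exact ⟨_, (comp_natural J d M₀.subtype w₀).symm⟩

end Groth.Agent.TopHTensorLib
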